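import Groth.Agent.QCoh.Support
import Groth.Agent.MorLib.Thick.QuasiAffine

/-!
# Affineness of the inverse image of an affine open under an affine map out of a thickening
-/

set_option autoImplicit false
set_option backward.isDefEq.respectTransparency false
set_option backward.isDefEq.respectTransparency.types false

universe u

open CategoryTheory CategoryTheory.Limits AlgebraicGeometry Opposite TopologicalSpace

namespace Groth.Agent.ThickPush

variable {T Tc U : Scheme.{u}} (i : T ⟶ Tc) [IsClosedImmersion i]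

/-- A closed immersion whose ideal sheaf is nilpotent is surjective. -/
theorem surjective_of_nil (hnil : ∃ n : ℕ, ∀ V : Tc.affineOpens, i.ker.ideal V ^ n = ⊥) :
    Surjective i := by
  obtain ⟨n, hn⟩ := hnil
  refine ⟨fun p => ?_⟩
  obtain ⟨V, hV, hpV, -⟩ := exists_isAffineOpen_mem_and_subset (show p ∈ (⊤ : Tc.Opens) from trivial)
  have h1 : p ∈ (i.ker.support : Set Tc) ∩ V := by
    rw [Scheme.IdealSheafData.coe_support_inter (U := ⟨V, hV⟩)]
    refine ⟨?_, hpV⟩
    rw [Scheme.mem_zeroLocus_iff]
    intro f hf hp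
    have hn0 : IsNilpotent f := ⟨n, by
      have := Ideal.pow_mem_pow hf n
      rwa [hn ⟨V, hV⟩, Ideal.mem_bot] at this⟩
    have e : Tc.basicOpen f = ⊥ := Tc.basicOpen_eq_bot_of_isNilpotent V f hn0
    rw [e] at hp
    exact hp
  have h2 : p ∈ closure (Set.range i) := by
    have := h1.1
    rwa [Scheme.Hom.support_ker] at this
  rw [i.isClosedEmbedding.isClosed_range.closure_eq] at h2
  exact h2

/-- The inverse image in the thickening of an affine open of the target of an affine map. -/
theorem isAffineOpen_preimage (hnil : ∃ n : ℕ, ∀ V : Tc.affineOpens, i.ker.ideal V ^ n = ⊥)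
    (u : T ⟶ U) [IsAffineHom u] (g : Tc.carrier ⟶ U.carrier) (hg : i.base ≫ g = u.base)
    {V : U.Opens} (hV : IsAffineOpen V) : IsAffineOpen (X := Tc) ((Opens.map g).obj V) := by
  haveI := surjective_of_nil i hnil
  refine MorLib.Thick.isAffineOpen_of_preimage i i.surjective ?_
  have e : i ⁻¹ᵁ ((Opens.map g).obj V) = u ⁻¹ᵁ V := by
    ext x
    show (i.base ≫ g) x ∈ V ↔ u x ∈ V
    rw [hg]
  rw [e]
  exact hV.preimage u

/-- The direct image of an epimorphism of quasi-coherent modules to the ringed space (U, g_*O) is an epimorphism. -/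
theorem epi_push (hnil : ∃ n : ℕ, ∀ V : Tc.affineOpens, i.ker.ideal V ^ n = ⊥)
    (u : T ⟶ U) [IsAffineHom u] (g : Tc.carrier ⟶ U.carrier) (hg : i.base ≫ g = u.base)
    (M N : Tc.Modules) [M.IsQuasicoherent] [N.IsQuasicoherent] (φ : M ⟶ N) [Epi φ] :
    Epi ((SheafOfModules.pushforward (F := Opens.map g) (R := Tc.ringCatSheaf)
      (𝟙 (((Opens.map g).sheafPushforwardContinuous RingCat.{u} (Opens.grothendieckTopology U)
        (Opens.grothendieckTopology Tc)).obj Tc.ringCatSheaf))).map φ) := by
  let P := SheafOfModules.pushforward.{u} (F := Opens.map g) (R := Tc.ringCatSheaf)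
      (𝟙 (((Opens.map g).sheafPushforwardContinuous RingCat.{u} (Opens.grothendieckTopology U)
        (Opens.grothendieckTopology Tc)).obj Tc.ringCatSheaf))
  haveI : Sheaf.IsLocallySurjective ((SheafOfModules.toSheaf _).map (P.map φ)) := ⟨fun {W} z x hx => by
    obtain ⟨V, hV, hxV, hVW⟩ := exists_isAffineOpen_mem_and_subset hx
    obtain ⟨m, hm⟩ := QCoh.app_surjective_of_epi (X := Tc) (M := M) (N := N) ‹M.IsQuasicoherent›
      ‹N.IsQuasicoherent› φ (isAffineOpen_preimage i hnil u g hg hV)
      (((P.obj N).val.map (homOfLE hVW).op) z)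
    exact ⟨V, homOfLE hVW, ⟨m, hm⟩, hxV⟩⟩
  haveI : Epi ((SheafOfModules.toSheaf _).map (P.map φ)) := (Sheaf.isLocallySurjective_iff_epi' _ _).1 inferInstance
  exact (SheafOfModules.toSheaf _).epi_of_epi_map inferInstance

end Groth.Agent.ThickPush
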